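import Mathlib.AlgebraicGeometry.AffineSpace
import Mathlib.AlgebraicGeometry.QuasiAffine
import Mathlib.AlgebraicGeometry.Pullbacks
import Mathlib.Algebra.Category.Ring.Constructions
/-!
Jouanolou's device for quasi-affine schemes: an affine scheme which is locally affine space over it.
-/

set_option autoImplicit false
set_option linter.style.haveILetI false
set_option backward.isDefEq.respectTransparency false

universe u

open CategoryTheory CategoryTheory.Limits AlgebraicGeometry

noncomputable section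

namespace Groth.Agent.JouanolouQA

variable {A : CommRingCat.{u}} {N : ℕ} (f : Fin N → A)

/-- The index type of the coordinates. -/
abbrev Idx (N : ℕ) : Type u := ULift.{u} (Fin N)

/-- The equation `∑ fᵢ xᵢ = 1`. -/
def eqn : MvPolynomial (Option (Idx.{u} N)) A :=
  ∑ i : Idx N, MvPolynomial.C (f i.down) * MvPolynomial.X (some i) - 1

/-- The ring of the affine scheme. -/
abbrev ring : CommRingCat.{u} := CommRingCat.of (MvPolynomial (Option (Idx.{u} N)) A ⧸ Ideal.span {eqn f})

/-- The structure map. -/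
def str : A ⟶ ring f := CommRingCat.ofHom ((Ideal.Quotient.mk _).comp MvPolynomial.C)

/-- The coordinates. -/
def crd (i : Option (Idx.{u} N)) : ring f := Ideal.Quotient.mk _ (MvPolynomial.X i)

theorem sum_crd : ∑ i : Idx N, (str f).hom (f i.down) * crd f (some i) = 1 := by
  simp only [str, crd, CommRingCat.hom_ofHom, RingHom.comp_apply]
  rw [← sub_eq_zero, ← (Ideal.Quotient.mk _).map_one]
  simp only [← map_mul, ← map_sum, ← map_sub]
  exact Ideal.Quotient.eq_zero_iff_mem.2 (Ideal.subset_span rfl)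

variable {R : CommRingCat.{u}} (φ : A ⟶ R) (a : Idx.{u} N → R) (ha : ∑ i, φ.hom (f i.down) * a i = 1)

/-- The affine space over `R`. -/
abbrev aff (R : CommRingCat.{u}) (N : ℕ) : CommRingCat.{u} := CommRingCat.of (MvPolynomial (Idx.{u} N) R)

/-- The polynomial giving the extra coordinate. -/
def extra : aff R N := ∑ i : Idx N, MvPolynomial.C (φ.hom (f i.down)) * MvPolynomial.X i

/-- The comparison map. -/
def comparison : ring f ⟶ aff R N :=
  CommRingCat.ofHom (Ideal.Quotient.lift _
    (MvPolynomial.eval₂Hom (MvPolynomial.C.comp φ.hom) fun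
      | none => extra f φ
      | some i => MvPolynomial.X i + MvPolynomial.C (a i) * (1 - extra f φ))
    (fun x hx => by
      obtain ⟨c, rfl⟩ := Ideal.mem_span_singleton'.1 hx
      rw [map_mul]
      refine mul_eq_zero_of_right _ ?_
      simp only [eqn, map_sub, map_sum, map_mul, MvPolynomial.eval₂Hom_C, MvPolynomial.eval₂Hom_X', map_one,
        RingHom.comp_apply, mul_add, Finset.sum_add_distrib, ← mul_assoc, ← Finset.sum_mul]
      rw [show ∑ i : Idx N, MvPolynomial.C (φ.hom (f i.down)) * MvPolynomial.C (a i) = (1 : aff R N) by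
        simp only [← map_mul, ← map_sum, ha, map_one]]
      simp [extra]))

theorem comparison_str (r : A) : (comparison f φ a ha).hom ((str f).hom r) = MvPolynomial.C (φ.hom r) := by
  change Ideal.Quotient.lift _ _ _ (Ideal.Quotient.mk _ (MvPolynomial.C r)) = _
  simp [Ideal.Quotient.lift_mk]

theorem comparison_crd_none : (comparison f φ a ha).hom (crd f none) = extra f φ := by
  change Ideal.Quotient.lift _ _ _ (Ideal.Quotient.mk _ (MvPolynomial.X none)) = _
  simp [Ideal.Quotient.lift_mk]

theorem comparison_crd_some (i : Idx N) : (comparison f φ a ha).hom (crd f (some i)) =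
    MvPolynomial.X i + MvPolynomial.C (a i) * (1 - extra f φ) := by
  change Ideal.Quotient.lift _ _ _ (Ideal.Quotient.mk _ (MvPolynomial.X (some i))) = _
  simp [Ideal.Quotient.lift_mk]

theorem isPushout : IsPushout φ (str f) (CommRingCat.ofHom MvPolynomial.C : R ⟶ aff R N) (comparison f φ a ha) := by
  refine IsPushout.of_isColimit' ⟨CommRingCat.hom_ext (RingHom.ext fun r => (comparison_str f φ a ha r).symm)⟩ ?_
  refine PushoutCocone.IsColimit.mk _
    (fun s => CommRingCat.ofHom (MvPolynomial.eval₂Hom s.inl.hom fun i =>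
      s.inr.hom (crd f (some i)) - s.inl.hom (a i) * (1 - s.inr.hom (crd f none))))
    (fun s => CommRingCat.hom_ext (RingHom.ext fun r => MvPolynomial.eval₂Hom_C _ _ r))
    (fun s => ?_) (fun s m h1 h2 => ?_)
  · have hc : ∀ r, s.inr.hom ((str f).hom r) = s.inl.hom (φ.hom r) := fun r =>
      (congrArg (fun g : A ⟶ s.pt => g.hom r) s.condition).symm
    let h : aff R N →+* s.pt := MvPolynomial.eval₂Hom s.inl.hom fun i =>
      s.inr.hom (crd f (some i)) - s.inl.hom (a i) * (1 - s.inr.hom (crd f none))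
    have he : h (extra f φ) = s.inr.hom (crd f none) := by
      have h1 := congrArg s.inr.hom (sum_crd f)
      simp only [map_sum, map_mul, map_one, hc] at h1
      have h2 := congrArg s.inl.hom ha
      simp only [map_sum, map_mul, map_one] at h2
      simp only [h, extra, map_sum, map_mul, MvPolynomial.eval₂Hom_C, MvPolynomial.eval₂Hom_X', mul_sub,
        Finset.sum_sub_distrib, h1, ← mul_assoc, ← Finset.sum_mul, h2]
      ring
    refine CommRingCat.hom_ext (Ideal.Quotient.ringHom_ext (MvPolynomial.ringHom_ext (fun r => ?_) fun i => ?_))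
    · change h ((comparison f φ a ha).hom ((str f).hom r)) = s.inr.hom ((str f).hom r)
      rw [comparison_str, hc]
      exact MvPolynomial.eval₂Hom_C _ _ _
    · cases i with
      | none =>
        change h ((comparison f φ a ha).hom (crd f none)) = s.inr.hom (crd f none)
        rw [comparison_crd_none, he]
      | some i =>
        change h ((comparison f φ a ha).hom (crd f (some i))) = s.inr.hom (crd f (some i))
        rw [comparison_crd_some, map_add, map_mul, map_sub, map_one, he]
        simp only [h, MvPolynomial.eval₂Hom_C, MvPolynomial.eval₂Hom_X']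
        ring
  · refine CommRingCat.hom_ext (MvPolynomial.ringHom_ext (fun r => ?_) fun i => ?_)
    · rw [CommRingCat.hom_ofHom, MvPolynomial.eval₂Hom_C, ← h1]
      rfl
    · rw [CommRingCat.hom_ofHom, MvPolynomial.eval₂Hom_X', ← h2, ← h1]
      change m.hom _ = m.hom ((comparison f φ a ha).hom (crd f (some i))) -
        m.hom (MvPolynomial.C (a i)) * (1 - m.hom ((comparison f φ a ha).hom (crd f none)))
      rw [comparison_crd_some, comparison_crd_none, map_add, map_mul, map_sub, map_one]
      ring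

/-- Jouanolou's device for quasi-affine schemes. -/
theorem exists_affine_vector_bundle (X : Scheme.{u}) [X.IsQuasiAffine] :
    ∃ (n : ℕ) (T : Scheme.{u}) (_ : IsAffine T) (p : T ⟶ X),
      ∀ (X' : Scheme.{u}) [IsAffine X'] (g : X' ⟶ X),
        ∃ e : Limits.pullback g p ≅ 𝔸(ULift.{u} (Fin n); X'),
          e.hom ≫ (𝔸(ULift.{u} (Fin n); X') ↘ X') = Limits.pullback.fst g p := by
  classical
  let A : CommRingCat.{u} := Γ(X, ⊤)
  let j : X ⟶ Spec A := X.toSpecΓ
  haveI : IsOpenImmersion j := inferInstanceAs (IsOpenImmersion X.toSpecΓ)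
  obtain ⟨t, ht⟩ := PrimeSpectrum.isCompact_isOpen_iff.1
    ⟨(isCompact_range j.continuous : IsCompact (Set.range j : Set (PrimeSpectrum A))), j.isOpenEmbedding.isOpen_range⟩
  let N := t.card
  let f : Fin N → A := fun i => (t.equivFin.symm i).1
  have hf : ∀ P : PrimeSpectrum A, P ∈ Set.range j ↔ ∃ i, f i ∉ P.asIdeal := fun P => by
    have h1 : P ∈ Set.range j ↔ P ∉ PrimeSpectrum.zeroLocus (t : Set A) := by
      constructor
      · intro h; rw [← ht] at h; exact h
      · intro h; rw [← ht]; exact h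
    rw [h1, PrimeSpectrum.mem_zeroLocus, Set.not_subset]
    constructor
    · rintro ⟨r, hr, hP⟩
      exact ⟨t.equivFin ⟨r, hr⟩, by simpa [f] using hP⟩
    · rintro ⟨i, hi⟩
      exact ⟨f i, (t.equivFin.symm i).2, hi⟩
  let T := Spec (ring f)
  have hr : Set.range (Spec.map (str f)) ⊆ Set.range j := by
    rintro _ ⟨Q, rfl⟩
    refine (hf _).2 ?_
    by_contra hne
    push_neg at hne
    refine Q.isPrime.ne_top ((Ideal.eq_top_iff_one _).2 ?_)
    rw [← sum_crd f]
    exact Ideal.sum_mem _ fun i _ => Ideal.mul_mem_right _ _ (hne i.down)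
  let p : T ⟶ X := IsOpenImmersion.lift j (Spec.map (str f)) hr
  have hp : p ≫ j = Spec.map (str f) := IsOpenImmersion.lift_fac _ _ _
  refine ⟨N, T, inferInstanceAs (IsAffine (Spec _)), p, fun X' _ g => ?_⟩
  let R : CommRingCat.{u} := Γ(X', ⊤)
  let φ : A ⟶ R := Spec.preimage (X'.isoSpec.inv ≫ g ≫ j)
  have hφ : Spec.map φ = X'.isoSpec.inv ≫ g ≫ j := Spec.map_preimage _
  obtain ⟨a, ha⟩ : ∃ a : Idx.{u} N → R, ∑ i, φ.hom (f i.down) * a i = 1 := by
    have htop : Ideal.span (Set.range fun i : Idx.{u} N => φ.hom (f i.down)) = ⊤ := by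
      by_contra hne
      obtain ⟨M, hM, hle⟩ := Ideal.exists_le_maximal _ hne
      have : (Spec.map φ) (⟨M, hM.isPrime⟩ : PrimeSpectrum R) ∈ Set.range j := by
        rw [hφ, Scheme.Hom.comp_apply, Scheme.Hom.comp_apply]
        exact ⟨_, rfl⟩
      obtain ⟨i, hi⟩ := (hf _).1 this
      exact hi (hle (Ideal.subset_span ⟨⟨i⟩, rfl⟩))
    have h1 : (1 : R) ∈ Ideal.span (Set.range fun i : Idx.{u} N => φ.hom (f i.down)) := htop ▸ trivial
    obtain ⟨a, ha⟩ := Ideal.mem_span_range_iff_exists_fun.1 h1
    exact ⟨a, by rw [← ha]; simp [mul_comm]⟩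
  have sq : IsPullback (Spec.map (CommRingCat.ofHom MvPolynomial.C : R ⟶ aff R N)) (Spec.map (comparison f φ a ha))
      (Spec.map φ) (Spec.map (str f)) :=
    isPullback_SpecMap_of_isPushout _ _ _ _ (isPushout f φ a ha)
  let q : 𝔸(Idx.{u} N; X') ≅ Spec (aff R N) :=
    (⟨AffineSpace.map (Idx.{u} N) X'.isoSpec.hom, AffineSpace.map (Idx.{u} N) X'.isoSpec.inv,
      by rw [← AffineSpace.map_comp, Iso.hom_inv_id, AffineSpace.map_id],
      by rw [← AffineSpace.map_comp, Iso.inv_hom_id, AffineSpace.map_id]⟩ : 𝔸(Idx.{u} N; X') ≅ 𝔸(Idx.{u} N; Spec R)) ≪≫ AffineSpace.SpecIso (Idx.{u} N) R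
  have hq : q.hom ≫ Spec.map (CommRingCat.ofHom MvPolynomial.C : R ⟶ aff R N) =
      (𝔸(Idx.{u} N; X') ↘ X') ≫ X'.isoSpec.hom := by
    simp only [q, R, Iso.trans_hom, Category.assoc]
    rw [← AffineSpace.SpecIso_inv_over, Iso.hom_inv_id_assoc, AffineSpace.map_over]
  have sqX : IsPullback (𝔸(Idx.{u} N; X') ↘ X') (q.hom ≫ Spec.map (comparison f φ a ha)) (g ≫ j) (p ≫ j) := by
    rw [hp]
    exact sq.of_iso q.symm X'.isoSpec.symm (Iso.refl _) (Iso.refl _) (by
      rw [Iso.symm_hom, Iso.symm_hom, Iso.eq_inv_comp, ← Category.assoc, hq, Category.assoc, Iso.hom_inv_id,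
        Category.comp_id]) (by simp) (by simp [hφ]) (by simp)
  have sqX' : IsPullback (𝔸(Idx.{u} N; X') ↘ X') (q.hom ≫ Spec.map (comparison f φ a ha)) g p := by
    have hw : (𝔸(Idx.{u} N; X') ↘ X') ≫ g = (q.hom ≫ Spec.map (comparison f φ a ha)) ≫ p := by
      rw [← cancel_mono j]
      simpa [Category.assoc] using sqX.w
    refine IsPullback.of_isLimit' ⟨hw⟩ (PullbackCone.IsLimit.mk _
      (fun s => sqX.lift s.fst s.snd (by rw [reassoc_of% s.condition])) (fun s => sqX.lift_fst _ _ _)
      (fun s => sqX.lift_snd _ _ _) (fun s m h1 h2 => sqX.hom_ext ?_ ?_))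
    · rw [sqX.lift_fst, h1]
    · rw [sqX.lift_snd, h2]
  exact ⟨sqX'.isoPullback.symm, sqX'.isoPullback_inv_fst⟩

end Groth.Agent.JouanolouQA
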